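import Groth.Prelude.Def_CGrpSh3
import Groth.Prelude.Def_GmPts
import Mathlib.AlgebraicGeometry.Sites.Fpqc
import Mathlib.AlgebraicGeometry.Morphisms.Etale
import Mathlib.AlgebraicGeometry.Morphisms.FlatMono
import Mathlib.AlgebraicGeometry.Morphisms.Finite

/-!
# Sections of sheaves on the big fppf site supported on a clopen piece
-/

set_option autoImplicit false
set_option backward.isDefEq.respectTransparency.types false

universe u

open CategoryTheory CategoryTheory.Limits AlgebraicGeometry Opposite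

noncomputable section

namespace Groth.Agent.DualNorm23

variable {S : Scheme.{u}} (F : BigSite.Ab Scheme.fppfPrecoverage S)

theorem map_map' {A B C : Over S} (g : A ⟶ B) (h : B ⟶ C) (x : F.obj.obj (op C)) :
    F.obj.map g.op (F.obj.map h.op x) = F.obj.map (g ≫ h).op x := by
  rw [op_comp, Functor.map_comp]
  rfl

theorem map_id' {A : Over S} (x : F.obj.obj (op A)) : F.obj.map (𝟙 A).op x = x := by
  rw [op_id, F.obj.map_id]
  rfl

/-- Sections glue along families of open immersions covering the target. -/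
theorem existsUnique_glue {J : Type u} {T : Over S} (V : J → Over S) (a : ∀ j, V j ⟶ T)
    [∀ j, IsOpenImmersion (a j).left] (hcov : ∀ z : T.left, ∃ j y, (a j).left y = z)
    (x : ∀ j, F.obj.obj (op (V j)))
    (hx : ∀ (i j : J) (W : Over S) (p : W ⟶ V i) (q : W ⟶ V j), p ≫ a i = q ≫ a j →
      F.obj.map p.op (x i) = F.obj.map q.op (x j)) :
    ∃! y : F.obj.obj (op T), ∀ j, F.obj.map (a j).op y = x j := by
  let 𝒰 : T.left.OpenCover := Scheme.Cover.mkOfCovers J (fun i => (V i).left) (fun i => (a i).left) hcov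
  have hmem : Sieve.ofArrows V a ∈ (QuotSh.J Scheme.fppfPrecoverage S) T := by
    rw [GrothendieckTopology.mem_over_iff]
    refine GrothendieckTopology.superset_covering _ ?_
      (Precoverage.toGrothendieck_mono Scheme.zariskiPrecoverage_le_fppfPrecoverage _ 𝒰.mem_grothendieckTopology)
    rw [Sieve.ofArrows, Sieve.generate_le_iff]
    rintro _ _ ⟨k⟩
    rw [Sieve.overEquiv_iff]
    exact ⟨_, Over.homMk (U := Over.mk ((a k).left ≫ T.hom)) (V := V k) (𝟙 _)
      ((Category.id_comp _).trans (Over.w (a k)).symm), a k, ⟨k⟩,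
      Over.OverMorphism.ext (Category.id_comp _)⟩
  have hs := (Presieve.isSheafFor_iff_generate _).2
    (((isSheaf_iff_isSheaf_of_type _ _).1
      ((Presheaf.isSheaf_iff_isSheaf_forget _ _ (forget AddCommGrpCat.{u + 1})).1 F.property)) _ hmem)
  exact (Presieve.isSheafFor_arrows_iff _ _).1 hs x hx

/-- Sections agreeing on a cover agree. -/
theorem ext_cover {J : Type u} {T : Over S} (V : J → Over S) (a : ∀ j, V j ⟶ T)
    [∀ j, IsOpenImmersion (a j).left] (hcov : ∀ z : T.left, ∃ j y, (a j).left y = z)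
    {y y' : F.obj.obj (op T)} (h : ∀ j, F.obj.map (a j).op y = F.obj.map (a j).op y') : y = y' := by
  obtain ⟨_, -, hu⟩ := existsUnique_glue F V a hcov (fun j => F.obj.map (a j).op y') fun i j W p q e => by
    rw [map_map', map_map', e]
  exact (hu y h).trans (hu y' fun _ => rfl).symm

theorem eq_zero_of_isEmpty {T : Over S} [IsEmpty T.left] (y : F.obj.obj (op T)) : y = 0 :=
  ext_cover F (fun j : PEmpty.{u + 1} => j.elim) (fun j => j.elim) (fun z => isEmptyElim z) (fun j => j.elim)

variable {A B : Over S} (γ : A ⟶ B)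

/-- The section `t` vanishes away from the image of `γ`. -/
def Supp (t : F.obj.obj (op B)) : Prop :=
  ∀ (W : Over S) (b : W ⟶ B), (∀ w, b.left w ∉ Set.range γ.left) → F.obj.map b.op t = 0

variable (hγ : IsClosed (Set.range γ.left))

/-- The complement of the image of `γ`. -/
def compl : Over S :=
  Over.mk (Scheme.Opens.ι (⟨(Set.range γ.left)ᶜ, hγ.isOpen_compl⟩ : B.left.Opens) ≫ B.hom)

/-- The inclusion of the complement. -/
def complι : compl γ hγ ⟶ B := Over.homMk (Scheme.Opens.ι _) rfl

instance : IsOpenImmersion (complι γ hγ).left :=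
  inferInstanceAs (IsOpenImmersion (Scheme.Opens.ι _))

theorem complι_notMem (w : (compl γ hγ).left) : (complι γ hγ).left w ∉ Set.range γ.left := w.2

variable [IsOpenImmersion γ.left]

theorem supp_ext (hγ : IsClosed (Set.range γ.left)) {t t' : F.obj.obj (op B)} (ht : Supp F γ t) (ht' : Supp F γ t')
    (h : F.obj.map γ.op t = F.obj.map γ.op t') : t = t' := by
  let V : ULift.{u} Bool → Over S := fun j => cond j.down A (compl γ hγ)
  let a : ∀ j, V j ⟶ B := fun j => match j with
    | ⟨true⟩ => γ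
    | ⟨false⟩ => complι γ hγ
  haveI : ∀ j, IsOpenImmersion (a j).left := fun j => match j with
    | ⟨true⟩ => ‹_›
    | ⟨false⟩ => inferInstanceAs (IsOpenImmersion (complι γ hγ).left)
  refine ext_cover F V a (fun z => ?_) fun j => ?_
  · by_cases hz : z ∈ Set.range γ.left
    · obtain ⟨y, hy⟩ := hz
      exact ⟨⟨true⟩, y, hy⟩
    · exact ⟨⟨false⟩, ⟨z, hz⟩, rfl⟩
  · match j with
    | ⟨true⟩ => exact h
    | ⟨false⟩ => rw [ht _ _ (complι_notMem γ hγ), ht' _ _ (complι_notMem γ hγ)]

theorem exists_supp (hγ : IsClosed (Set.range γ.left)) (s : F.obj.obj (op A)) :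
    ∃ t : F.obj.obj (op B), Supp F γ t ∧ F.obj.map γ.op t = s := by
  let V : ULift.{u} Bool → Over S := fun j => cond j.down A (compl γ hγ)
  let a : ∀ j, V j ⟶ B := fun j => match j with
    | ⟨true⟩ => γ
    | ⟨false⟩ => complι γ hγ
  haveI : ∀ j, IsOpenImmersion (a j).left := fun j => match j with
    | ⟨true⟩ => ‹_›
    | ⟨false⟩ => inferInstanceAs (IsOpenImmersion (complι γ hγ).left)
  let x : ∀ j, F.obj.obj (op (V j)) := fun j => match j with
    | ⟨true⟩ => s
    | ⟨false⟩ => 0
  have hmix : ∀ (W : Over S) (p : W ⟶ A) (q : W ⟶ compl γ hγ), p ≫ γ = q ≫ complι γ hγ → IsEmpty W.left :=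
    fun W p q e => ⟨fun w => complι_notMem γ hγ (q.left w) ⟨p.left w,
      congrArg (fun m : W ⟶ B => m.left w) e⟩⟩
  obtain ⟨t, ht, -⟩ := existsUnique_glue F V a (fun z => by
    by_cases hz : z ∈ Set.range γ.left
    · obtain ⟨y, hy⟩ := hz
      exact ⟨⟨true⟩, y, hy⟩
    · exact ⟨⟨false⟩, ⟨z, hz⟩, rfl⟩) x (fun i j W p q e => by
    match i, j with
    | ⟨true⟩, ⟨true⟩ =>
      rw [show p = q from Over.OverMorphism.ext ((cancel_mono γ.left).1 (congrArg CommaMorphism.left e))]
    | ⟨false⟩, ⟨false⟩ =>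
      show F.obj.map p.op 0 = F.obj.map q.op 0
      rw [map_zero, map_zero]
    | ⟨true⟩, ⟨false⟩ =>
      haveI := hmix W p q e
      rw [eq_zero_of_isEmpty F (F.obj.map p.op _), eq_zero_of_isEmpty F (F.obj.map q.op _)]
    | ⟨false⟩, ⟨true⟩ =>
      haveI := hmix W q p e.symm
      rw [eq_zero_of_isEmpty F (F.obj.map p.op _), eq_zero_of_isEmpty F (F.obj.map q.op _)])
  refine ⟨t, fun W b hb => ?_, ht ⟨true⟩⟩
  let b₀ := IsOpenImmersion.lift (complι γ hγ).left b.left (by
    rintro _ ⟨w, rfl⟩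
    exact ⟨⟨b.left w, hb w⟩, rfl⟩)
  have hb₀ : b₀ ≫ (complι γ hγ).left = b.left := IsOpenImmersion.lift_fac _ _ _
  let b' : W ⟶ compl γ hγ := Over.homMk b₀ (by
    rw [← Over.w (complι γ hγ), ← Category.assoc, hb₀, Over.w b])
  rw [show b = b' ≫ complι γ hγ from Over.OverMorphism.ext hb₀.symm, ← map_map']
  rw [show F.obj.map (complι γ hγ).op t = 0 from ht ⟨false⟩, map_zero]

variable {X X' : Scheme.{u}} (f : X' ⟶ X)

/-- The pullback functor. -/
abbrev P : Over X ⥤ Over X' := Over.pullback f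

/-- The composition functor. -/
abbrev M : Over X' ⥤ Over X := Over.map f

/-- The graph of an object over the source. -/
def eta (z : Over X') : z ⟶ (P f).obj ((M f).obj z) :=
  Over.homMk (pullback.lift (f := ((M f).obj z).hom) (g := f) (𝟙 z.left) z.hom (by simp))
    (pullback.lift_snd _ _ _)

/-- The projection. -/
def proj (v : Over X) : (M f).obj ((P f).obj v) ⟶ v :=
  Over.homMk (pullback.fst v.hom f) (by
    show pullback.fst v.hom f ≫ v.hom = pullback.snd v.hom f ≫ f
    exact pullback.condition)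

theorem eta_fst (z : Over X') : (eta f z).left ≫ pullback.fst ((M f).obj z).hom f = 𝟙 _ := pullback.lift_fst _ _ _

theorem eta_snd (z : Over X') : (eta f z).left ≫ pullback.snd ((M f).obj z).hom f = z.hom := pullback.lift_snd _ _ _

theorem map_fst {v w : Over X} (e : v ⟶ w) :
    ((P f).map e).left ≫ pullback.fst w.hom f = pullback.fst v.hom f ≫ e.left := pullback.lift_fst _ _ _

theorem map_snd {v w : Over X} (e : v ⟶ w) :
    ((P f).map e).left ≫ pullback.snd w.hom f = pullback.snd v.hom f := pullback.lift_snd _ _ _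

theorem eta_naturality {z z' : Over X'} (g : z ⟶ z') : g ≫ eta f z' = eta f z ≫ (P f).map ((M f).map g) := by
  refine Over.OverMorphism.ext (pullback.hom_ext ?_ ?_)
  · simp only [Over.comp_left, Category.assoc, eta_fst, map_fst, reassoc_of% eta_fst f z]
    simp
  · simp only [Over.comp_left, Category.assoc, eta_snd, map_snd, eta_snd f z]
    exact Over.w g

theorem eta_proj (v : Over X) : eta f ((P f).obj v) ≫ (P f).map (proj f v) = 𝟙 _ := by
  refine Over.OverMorphism.ext (pullback.hom_ext ?_ ?_)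
  · simp only [Over.comp_left, Category.assoc, map_fst, reassoc_of% eta_fst f ((P f).obj v), Over.id_left,
      Category.id_comp]
    rfl
  · simp only [Over.comp_left, Category.assoc, map_snd, eta_snd f ((P f).obj v), Over.id_left, Category.id_comp]
    rfl

theorem eta_adj {z : Over X'} {T : Over X} (h : z ⟶ (P f).obj T) :
    eta f z ≫ (P f).map ((M f).map h ≫ proj f T) = h := by
  rw [Functor.map_comp, ← Category.assoc, ← eta_naturality, Category.assoc, eta_proj, Category.comp_id]

theorem isOpenImmersion_of_section [Etale f] {v : Over X} {z : Over X'} (γ : z ⟶ (P f).obj v) [IsIso (γ.left ≫ pullback.fst v.hom f)] :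
    IsOpenImmersion γ.left := by
  haveI : Mono γ.left := mono_of_mono _ (pullback.fst v.hom f)
  haveI : Etale (γ.left ≫ pullback.fst v.hom f) := inferInstance
  haveI : Etale γ.left := MorphismProperty.of_postcomp (W := @Etale) (W' := @Etale) γ.left (pullback.fst v.hom f)
    inferInstance ‹_›
  exact IsOpenImmersion.of_flat_of_mono _

theorem isClosed_range_of_section [IsFinite f] {v : Over X} {z : Over X'} (γ : z ⟶ (P f).obj v)
    [IsIso (γ.left ≫ pullback.fst v.hom f)] : IsClosed (Set.range γ.left) := by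
  have : IsClosedImmersion γ.left := IsClosedImmersion.of_comp γ.left (pullback.fst v.hom f)
  exact γ.left.isClosedEmbedding.isClosed_range

instance (z : Over X') : IsIso ((eta f z).left ≫ pullback.fst ((M f).obj z).hom f) := by
  rw [eta_fst]; infer_instance

/-- A point over the base change meeting the image of a compatible section lies on the section. -/
theorem mem_range_of_map {v₁ v₂ : Over X} (e : v₂ ⟶ v₁) {z₁ z₂ : Over X'} (γ₁ : z₁ ⟶ (P f).obj v₁)
    (γ₂ : z₂ ⟶ (P f).obj v₂) [IsIso (γ₁.left ≫ pullback.fst v₁.hom f)] [IsIso (γ₂.left ≫ pullback.fst v₂.hom f)]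
    (g : z₂ ⟶ z₁) (hsq : g ≫ γ₁ = γ₂ ≫ (P f).map e) (p : ((P f).obj v₂).left)
    (hp : ((P f).map e).left p ∈ Set.range γ₁.left) : p ∈ Set.range γ₂.left := by
  obtain ⟨y, hy⟩ := hp
  obtain ⟨q, hq, -⟩ := Scheme.Pullback.exists_preimage_pullback (f := ((P f).map e).left) (g := γ₁.left) p y hy.symm
  set a := pullback.fst ((P f).map e).left γ₁.left with ha
  set b := pullback.snd ((P f).map e).left γ₁.left with hb
  let τ := (a ≫ pullback.fst v₂.hom f) ≫ inv (γ₂.left ≫ pullback.fst v₂.hom f)
  have h1 : (τ ≫ γ₂.left) ≫ pullback.fst v₂.hom f = a ≫ pullback.fst v₂.hom f := by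
    simp only [τ, Category.assoc, IsIso.inv_hom_id, Category.comp_id]
  have hcond : a ≫ ((P f).map e).left = b ≫ γ₁.left := pullback.condition
  have hg : g.left ≫ γ₁.left = γ₂.left ≫ ((P f).map e).left := congrArg CommaMorphism.left hsq
  have h2 : τ ≫ g.left = b := by
    rw [← cancel_mono (γ₁.left ≫ pullback.fst v₁.hom f), Category.assoc, reassoc_of% hg, map_fst,
      ← Category.assoc γ₂.left, ← Category.assoc τ, ← Category.assoc τ, h1, Category.assoc, ← map_fst,
      reassoc_of% hcond]
  have h3 : τ ≫ γ₂.left = a := by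
    apply pullback.hom_ext
    · exact h1
    · calc (τ ≫ γ₂.left) ≫ pullback.snd v₂.hom f = τ ≫ γ₂.left ≫ ((P f).map e).left ≫ pullback.snd v₁.hom f := by
            rw [map_snd, Category.assoc]
        _ = b ≫ γ₁.left ≫ pullback.snd v₁.hom f := by rw [← reassoc_of% hg, reassoc_of% h2]
        _ = a ≫ pullback.snd v₂.hom f := by rw [← reassoc_of% hcond, map_snd]
  exact ⟨τ q, by rw [← hq, ← h3]; rfl⟩

/-- Restriction preserves support on sections. -/
theorem Supp.map (F' : BigSite.Ab Scheme.fppfPrecoverage X') {v₁ v₂ : Over X} (e : v₂ ⟶ v₁) {z₁ z₂ : Over X'}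
    {γ₁ : z₁ ⟶ (P f).obj v₁} (γ₂ : z₂ ⟶ (P f).obj v₂) [IsIso (γ₁.left ≫ pullback.fst v₁.hom f)]
    [IsIso (γ₂.left ≫ pullback.fst v₂.hom f)] (g : z₂ ⟶ z₁) (hsq : g ≫ γ₁ = γ₂ ≫ (P f).map e)
    {t : F'.obj.obj (op ((P f).obj v₁))} (ht : Supp F' γ₁ t) : Supp F' γ₂ (F'.obj.map ((P f).map e).op t) :=
  fun W b hb => by
    rw [map_map']
    exact ht W _ fun w hw => hb w (mem_range_of_map f e γ₁ γ₂ g hsq _ hw)

end Groth.Agent.DualNorm23
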