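import Groth.Agent.Lib.DualNorm23.Clopen
import Mathlib.RingTheory.TotallySplit
import Mathlib.AlgebraicGeometry.Morphisms.Flat
import Mathlib.AlgebraicGeometry.AffineScheme

/-!
# Finite étale algebras split after a faithfully flat base change
-/

set_option autoImplicit false
set_option backward.isDefEq.respectTransparency.types false

universe u

open CategoryTheory CategoryTheory.Limits AlgebraicGeometry Opposite TensorProduct

noncomputable section

namespace Groth.Agent.DualNorm23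

variable {X X' : Scheme.{u}} (f : X' ⟶ X) [IsFinite f] [Etale f]

/-- A splitting of the base change over `V'`. -/
structure Splitting (V' : Over X) where
  n : ℕ
  z : Fin n → Over X'
  γ : ∀ j, z j ⟶ (P f).obj V'
  iso : ∀ j, IsIso ((γ j).left ≫ pullback.fst V'.hom f)
  disj : ∀ i j, i ≠ j → ∀ w, (γ i).left w ∉ Set.range (γ j).left
  cover : ∀ p : ((P f).obj V').left, ∃ j w, (γ j).left w = p

theorem exists_splitting (V : Over X) [IsAffine V.left]
    (hfree : letI := (pullback.fst V.hom f).appTop.hom.toAlgebra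
      Module.Finite Γ(V.left, ⊤) Γ(pullback V.hom f, ⊤) ∧ Module.Free Γ(V.left, ⊤) Γ(pullback V.hom f, ⊤)) :
    ∃ (V' : Over X) (e : V' ⟶ V), Flat e.left ∧ Surjective e.left ∧ Nonempty (Splitting f V') := by
  let q := pullback.fst V.hom f
  haveI : IsAffine (pullback V.hom f) := isAffine_of_isAffineHom q
  let := q.appTop.hom.toAlgebra
  obtain ⟨hfin, hfree⟩ := hfree
  haveI : Algebra.Etale Γ(V.left, ⊤) Γ(pullback V.hom f, ⊤) :=
    HasRingHomProperty.appTop (P := @Etale) q inferInstance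
  obtain ⟨T, _, _, _, _, _, hsplit⟩ := Algebra.IsFiniteSplit.exists_tensorProduct_of_etale
    (R := Γ(V.left, ⊤)) (S := Γ(pullback V.hom f, ⊤)) (n := Module.finrank Γ(V.left, ⊤) Γ(pullback V.hom f, ⊤))
    (by
      rcases subsingleton_or_nontrivial Γ(V.left, ⊤) with h | h
      · funext p; exact absurd p.isPrime.ne_top (not_not.2 (Subsingleton.elim _ _))
      · exact Module.rankAtStalk_eq_finrank_of_free)
  obtain ⟨n, ⟨φ⟩⟩ := Algebra.IsFiniteSplit.nonempty_algEquiv_fun T (T ⊗[Γ(V.left, ⊤)] Γ(pullback V.hom f, ⊤))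
  let iT : Γ(V.left, ⊤) ⟶ CommRingCat.of T := CommRingCat.ofHom (algebraMap Γ(V.left, ⊤) T)
  let eL : Spec (CommRingCat.of T) ⟶ V.left := Spec.map iT ≫ V.left.isoSpec.inv
  let V' : Over X := Over.mk (eL ≫ V.hom)
  let e : V' ⟶ V := Over.homMk eL rfl
  have hflat : Flat eL := by
    haveI : Flat (Spec.map iT) := by
      rw [HasRingHomProperty.Spec_iff (P := @Flat)]
      exact RingHom.flat_algebraMap_iff.2 inferInstance
    infer_instance
  have hsurj : Surjective eL := by
    haveI : Surjective (Spec.map iT) := ⟨fun x => PrimeSpectrum.comap_surjective_of_faithfullyFlat x⟩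
    infer_instance
  refine ⟨V', e, hflat, hsurj, ?_⟩
  let iL : CommRingCat.of T ⟶ CommRingCat.of (T ⊗[Γ(V.left, ⊤)] Γ(pullback V.hom f, ⊤)) :=
    CommRingCat.ofHom Algebra.TensorProduct.includeLeftRingHom
  let iR : Γ(pullback V.hom f, ⊤) ⟶ CommRingCat.of (T ⊗[Γ(V.left, ⊤)] Γ(pullback V.hom f, ⊤)) :=
    CommRingCat.ofHom (Algebra.TensorProduct.includeRight (R := Γ(V.left, ⊤)) (A := T)).toRingHom
  have sq₁ : IsPullback ((P f).map e).left (pullback.fst V'.hom f) q e.left :=
    IsPullback.of_right (h₁₂ := pullback.snd V.hom f) (h₂₂ := V.hom) (v₁₃ := f)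
      (by rw [map_snd, Over.w e]; exact (IsPullback.of_hasPullback V'.hom f).flip) (map_fst f e)
      (IsPullback.of_hasPullback V.hom f).flip
  have po : IsPushout iT q.appTop iL iR :=
    CommRingCat.isPushout_tensorProduct Γ(V.left, ⊤) T Γ(pullback V.hom f, ⊤)
  have sq₂ : IsPullback (Spec.map iR ≫ (pullback V.hom f).isoSpec.inv) (Spec.map iL) q eL := by
    refine (isPullback_SpecMap_of_isPushout _ _ _ _ po).flip.of_iso (Iso.refl _) (pullback V.hom f).isoSpec.symm
      (Iso.refl _) V.left.isoSpec.symm (by simp) (by simp) ?_ (by simp [eL])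
    simp only [Iso.symm_hom]
    exact Scheme.isoSpec_inv_naturality q
  let θ := sq₂.isoIsPullback _ _ sq₁
  have hθ : θ.hom ≫ pullback.fst V'.hom f = Spec.map iL := sq₂.isoIsPullback_hom_snd _ _ sq₁
  let φh : CommRingCat.of (T ⊗[Γ(V.left, ⊤)] Γ(pullback V.hom f, ⊤)) ⟶ CommRingCat.of (Fin n → T) :=
    CommRingCat.ofHom φ.toRingEquiv.toRingHom
  haveI : IsIso φh := by
    rw [ConcreteCategory.isIso_iff_bijective]
    exact φ.bijective
  let θ' : Spec (CommRingCat.of (Fin n → T)) ⟶ ((P f).obj V').left := Spec.map φh ≫ θ.hom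
  haveI : IsIso θ' := inferInstanceAs (IsIso (_ ≫ _))
  let ev : ∀ j : Fin n, CommRingCat.of (Fin n → T) ⟶ CommRingCat.of T :=
    fun j => CommRingCat.ofHom (Pi.evalRingHom (fun _ => T) j)
  have hsec : ∀ j, (Spec.map (ev j) ≫ θ') ≫ pullback.fst V'.hom f = 𝟙 _ := fun j => by
    simp only [θ', Category.assoc]
    rw [hθ, ← Spec.map_comp, ← Spec.map_comp, ← Spec.map_id]
    congr 1
    ext r
    show φ (algebraMap T _ r) j = r
    rw [AlgEquiv.commutes]
    rfl
  refine ⟨⟨n, fun j => Over.mk ((Spec.map (ev j) ≫ θ') ≫ ((P f).obj V').hom),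
    fun j => Over.homMk (Spec.map (ev j) ≫ θ') rfl, fun j => ?_, ?_, fun p => ?_⟩⟩
  · show IsIso ((Spec.map (ev j) ≫ θ') ≫ pullback.fst V'.hom f)
    rw [hsec]
    infer_instance
  · rintro i j hij w ⟨w', hw'⟩
    have h := θ'.homeomorph.injective (show θ' (Spec.map (ev j) w') = θ' (Spec.map (ev i) w) from hw')
    have h1 : (Pi.single i 1 : Fin n → T) ∈ (Spec.map (ev j) w').asIdeal := by
      show Pi.evalRingHom (fun _ => T) j (Pi.single i 1) ∈ w'.asIdeal
      simp [Pi.single_eq_of_ne (Ne.symm hij)]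
    rw [h] at h1
    exact w.isPrime.ne_top ((Ideal.eq_top_iff_one _).2 (by
      have : Pi.evalRingHom (fun _ => T) i (Pi.single i 1) ∈ w.asIdeal := h1
      simpa using this))
  · obtain ⟨j, r, hr⟩ := PrimeSpectrum.exists_comap_evalRingHom_eq (θ'.homeomorph.symm p)
    refine ⟨j, r, ?_⟩
    show θ' (Spec.map (ev j) r) = p
    exact (congrArg θ' hr).trans (θ'.homeomorph.apply_symm_apply p)

end Groth.Agent.DualNorm23
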