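import Groth.Agent.Lib.DualNorm23.Norm
import Groth.Agent.Lib.DualNorm23.Split

/-!
# The norm map on dual sheaves is an isomorphism for finite étale morphisms
-/

set_option autoImplicit false
set_option backward.isDefEq.respectTransparency.types false

universe u

open CategoryTheory CategoryTheory.Limits AlgebraicGeometry Opposite

noncomputable section

namespace Groth.Agent.DualNorm23

variable {X X' : Scheme.{u}} (f : X' ⟶ X) [IsFinite f] [Etale f] (F' : BigSite.Ab Scheme.fppfPrecoverage X')

instance (z : Over X') : IsOpenImmersion (eta f z).left := isOpenImmersion_of_section f (eta f z)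

theorem isClosed_range_eta (z : Over X') : IsClosed (Set.range (eta f z).left) :=
  isClosed_range_of_section f (eta f z)

/-- Extension by zero along the graph. -/
def ext0 (z : Over X') (s : F'.obj.obj (op z)) : F'.obj.obj (op ((P f).obj ((M f).obj z))) :=
  (exists_supp F' (eta f z) (isClosed_range_eta f z) s).choose

theorem supp_ext0 (z : Over X') (s : F'.obj.obj (op z)) : Supp F' (eta f z) (ext0 f F' z s) :=
  (exists_supp F' (eta f z) (isClosed_range_eta f z) s).choose_spec.1

theorem map_ext0 (z : Over X') (s : F'.obj.obj (op z)) : F'.obj.map (eta f z).op (ext0 f F' z s) = s :=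
  (exists_supp F' (eta f z) (isClosed_range_eta f z) s).choose_spec.2

theorem eq_ext0 {z : Over X'} {t : F'.obj.obj (op ((P f).obj ((M f).obj z)))} {s : F'.obj.obj (op z)}
    (ht : Supp F' (eta f z) t) (h : F'.obj.map (eta f z).op t = s) : t = ext0 f F' z s :=
  supp_ext F' (eta f z) (isClosed_range_eta f z) ht (supp_ext0 f F' z s) (h.trans (map_ext0 f F' z s).symm)

theorem ext0_add (z : Over X') (s s' : F'.obj.obj (op z)) :
    ext0 f F' z (s + s') = ext0 f F' z s + ext0 f F' z s' := by
  symm
  refine eq_ext0 f F' (fun W b hb => ?_) ?_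
  · rw [map_add, supp_ext0 f F' z s W b hb, supp_ext0 f F' z s' W b hb, add_zero]
  · rw [map_add, map_ext0, map_ext0]

theorem ext0_naturality {z z' : Over X'} (g : z' ⟶ z) (s : F'.obj.obj (op z)) :
    ext0 f F' z' (F'.obj.map g.op s) = F'.obj.map ((P f).map ((M f).map g)).op (ext0 f F' z s) := by
  symm
  refine eq_ext0 f F' ((supp_ext0 f F' z s).map f F' _ (eta f z') g (eta_naturality f g)) ?_
  rw [map_map', ← eta_naturality, ← map_map', map_ext0]

/-- A function on the source of an object of the site, read over the other base. -/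
def toX' {z : Over X'} (x : (CGrpSh2.Gm Scheme.fppfPrecoverage X).obj.obj (op ((M f).obj z))) :
    (CGrpSh2.Gm Scheme.fppfPrecoverage X').obj.obj (op z) :=
  (exists_gv (w := z) (r := gv (w := (M f).obj z) x) (isUnit_gv x)).choose

omit [IsFinite f] [Etale f] in
theorem gv_toX' {z : Over X'} (x : (CGrpSh2.Gm Scheme.fppfPrecoverage X).obj.obj (op ((M f).obj z))) :
    gv (toX' f x) = gv (w := (M f).obj z) x :=
  (exists_gv (w := z) (r := gv (w := (M f).obj z) x) (isUnit_gv x)).choose_spec

variable {T : Over X}

/-- The object over `T` underlying an object over the base change. -/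
def down (W : Over ((P f).obj T)) : Over T := Over.mk ((M f).map W.hom ≫ proj f T)

/-- The morphism between underlying objects. -/
def downMap {W W' : Over ((P f).obj T)} (g : W' ⟶ W) : down f W' ⟶ down f W :=
  Over.homMk ((M f).map g.left) (by
    show (M f).map g.left ≫ (M f).map W.hom ≫ proj f T = (M f).map W'.hom ≫ proj f T
    rw [← Functor.map_comp_assoc, Over.w g])

variable (ψ : ((BigSite.pushBig Scheme.fppfPrecoverage f AddCommGrpCat.{u + 1}).obj F').over T ⟶
  (CGrpSh2.Gm Scheme.fppfPrecoverage X).over T)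

/-- The values of the inverse of the norm map on dual sheaves. -/
def backVal (W : Over ((P f).obj T)) (s : F'.obj.obj (op W.left)) :
    (CGrpSh2.Gm Scheme.fppfPrecoverage X').obj.obj (op W.left) :=
  toX' f (ψ.hom.app (op (down f W)) (ext0 f F' W.left s))

theorem backVal_add (W : Over ((P f).obj T)) (s s' : F'.obj.obj (op W.left)) :
    backVal f F' ψ W (s + s') = backVal f F' ψ W s + backVal f F' ψ W s' := by
  refine gv_inj ?_
  rw [gv_add, backVal, backVal, backVal, gv_toX', gv_toX', gv_toX', ext0_add]
  exact (congrArg gv (map_add (ψ.hom.app (op (down f W))).hom _ _)).trans (gv_add _ _)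

theorem backVal_naturality {W W' : Over ((P f).obj T)} (g : W' ⟶ W) (s : F'.obj.obj (op W.left)) :
    backVal f F' ψ W' (F'.obj.map g.left.op s) =
      (CGrpSh2.Gm Scheme.fppfPrecoverage X').obj.map g.left.op (backVal f F' ψ W s) := by
  refine gv_inj ?_
  rw [gv_map, backVal, backVal, gv_toX', gv_toX', ext0_naturality]
  have h := ConcreteCategory.congr_hom (ψ.hom.naturality (downMap f g).op) (ext0 f F' W.left s)
  exact (congrArg gv h).trans (gv_map _ _)

/-- The values of the inverse, as homomorphisms. -/
def backHom (W : Over ((P f).obj T)) :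
    F'.obj.obj (op W.left) →+ (CGrpSh2.Gm Scheme.fppfPrecoverage X').obj.obj (op W.left) :=
  AddMonoidHom.mk' (G := (CGrpSh2.Gm Scheme.fppfPrecoverage X').obj.obj (op W.left)) (backVal f F' ψ W)
    (backVal_add f F' ψ W)

/-- The values of the inverse, as morphisms. -/
def backApp (W : Over ((P f).obj T)) :
    F'.obj.obj (op W.left) ⟶ (CGrpSh2.Gm Scheme.fppfPrecoverage X').obj.obj (op W.left) :=
  ConcreteCategory.ofHom (backHom f F' ψ W)

/-- The inverse of the norm map on dual sheaves. -/
def back : F'.over ((P f).obj T) ⟶ (CGrpSh2.Gm Scheme.fppfPrecoverage X').over ((P f).obj T) :=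
  ⟨{ app := fun W => backApp f F' ψ W.unop
     naturality := fun W W' g => AddCommGrpCat.ext fun s => backVal_naturality f F' ψ g.unop s }⟩

theorem back_app (W : Over ((P f).obj T)) (s : F'.obj.obj (op W.left)) :
    (back f F' ψ).hom.app (op W) s = backVal f F' ψ W s := rfl

variable (N : CGrpSh3.pushGm Scheme.fppfPrecoverage f ⟶ CGrpSh2.Gm Scheme.fppfPrecoverage X)
  (hN : CGrpSh3.IsNormMap Scheme.fppfPrecoverage f N)
  (χ : F'.over ((P f).obj T) ⟶ (CGrpSh2.Gm Scheme.fppfPrecoverage X').over ((P f).obj T))

omit [IsFinite f] [Etale f] in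
theorem fwd_app (W : Over T) (s : F'.obj.obj (op ((P f).obj W.left))) :
    ((CGrpSh3.dualNormMap Scheme.fppfPrecoverage f N F').hom.app (op T) χ).hom.app (op W) s =
      N.hom.app (op W.left) (χ.hom.app (op (Over.mk ((P f).map W.hom))) s) := rfl

omit [IsFinite f] [Etale f] in
theorem chi_naturality {W W' : Over ((P f).obj T)} (g : W' ⟶ W) (s : F'.obj.obj (op W.left)) :
    χ.hom.app (op W') (F'.obj.map g.left.op s) =
      (CGrpSh2.Gm Scheme.fppfPrecoverage X').obj.map g.left.op (χ.hom.app (op W) s) :=
  ConcreteCategory.congr_hom (χ.hom.naturality g.op) s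

omit [IsFinite f] [Etale f] in
/-- Characters preserve support. -/
theorem supp_chi {W : Over ((P f).obj T)} {z : Over X'} (γ : z ⟶ W.left) {s : F'.obj.obj (op W.left)}
    (hs : Supp F' γ s) : Supp (CGrpSh2.Gm Scheme.fppfPrecoverage X') γ (χ.hom.app (op W) s) := fun W' b hb => by
  refine (chi_naturality f F' χ (Over.homMk b : Over.mk (b ≫ W.hom) ⟶ W) s).symm.trans ?_
  show χ.hom.app (op (Over.mk (b ≫ W.hom))) (F'.obj.map b.op s) = 0
  rw [hs W' b hb]
  exact map_zero (χ.hom.app (op (Over.mk (b ≫ W.hom)))).hom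

include hN in
theorem back_fwd (W : Over ((P f).obj T)) (s : F'.obj.obj (op W.left)) :
    (back f F' ((CGrpSh3.dualNormMap Scheme.fppfPrecoverage f N F').hom.app (op T) χ)).hom.app (op W) s =
      χ.hom.app (op W) s := by
  refine gv_inj ?_
  rw [back_app, backVal]
  refine (gv_toX' f _).trans ?_
  refine (congrArg gv (fwd_app f F' N χ (down f W) _)).trans ?_
  let W₁ : Over ((P f).obj T) := Over.mk ((P f).map ((M f).map W.hom ≫ proj f T))
  have hW : eta f W.left ≫ W₁.hom = W.hom := eta_adj f W.hom
  let g : W ⟶ W₁ := Over.homMk (eta f W.left) hW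
  have h1 := norm_supp f N hN (eta f W.left) _
    (supp_chi f F' χ (W := W₁) (eta f W.left) (supp_ext0 f F' W.left s))
  rw [eta_fst] at h1
  have h2 := chi_naturality f F' χ g (ext0 f F' W.left s)
  rw [show F'.obj.map g.left.op (ext0 f F' W.left s) = s from map_ext0 f F' W.left s] at h2
  refine Eq.trans ?_ ((congrArg gv h2).trans (gv_map _ _)).symm
  exact h1

include hN in
theorem fwd_back_of_supp {W : Over T} {z : Over X'} (γ : z ⟶ (P f).obj W.left)
    [IsIso (γ.left ≫ pullback.fst W.left.hom f)] (t : F'.obj.obj (op ((P f).obj W.left))) (ht : Supp F' γ t) :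
    N.hom.app (op W.left) ((back f F' ψ).hom.app (op (Over.mk ((P f).map W.hom))) t) = ψ.hom.app (op W) t := by
  refine gv_inj ?_
  have hn := norm_supp f N hN γ _ (supp_chi f F' (back f F' ψ) (W := Over.mk ((P f).map W.hom)) γ ht)
  let e : (M f).obj z ⟶ W.left := Over.homMk (γ.left ≫ pullback.fst W.left.hom f) (by
    show (γ.left ≫ pullback.fst W.left.hom f) ≫ W.left.hom = z.hom ≫ f
    rw [Category.assoc, pullback.condition, ← Category.assoc]
    exact congrArg (· ≫ f) (Over.w γ))
  have he : eta f z ≫ (P f).map e = γ := by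
    refine Over.OverMorphism.ext (pullback.hom_ext ?_ ?_)
    · simp only [Over.comp_left, Category.assoc, map_fst, reassoc_of% eta_fst f z]
      rfl
    · simp only [Over.comp_left, Category.assoc, map_snd, eta_snd f z]
      exact (Over.w γ).symm
  let Wz : Over ((P f).obj T) := Over.mk (γ ≫ (P f).map W.hom)
  let g : Wz ⟶ Over.mk ((P f).map W.hom) := Over.homMk γ rfl
  let d : down f Wz ⟶ W := Over.homMk e (by
    show e ≫ W.hom = (M f).map (γ ≫ (P f).map W.hom) ≫ proj f T
    refine Over.OverMorphism.ext ?_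
    show (γ.left ≫ pullback.fst W.left.hom f) ≫ W.hom.left =
      (γ.left ≫ ((P f).map W.hom).left) ≫ pullback.fst T.hom f
    rw [Category.assoc, Category.assoc, map_fst])
  have hext : F'.obj.map ((P f).map e).op t = ext0 f F' z (F'.obj.map γ.op t) := by
    refine eq_ext0 f F' ?_ ?_
    · exact ht.map f F' e (eta f z) (𝟙 z) (by rw [Category.id_comp, he])
    · rw [map_map', he]
  have h2 : γ.left.appTop (gv ((back f F' ψ).hom.app (op (Over.mk ((P f).map W.hom))) t)) =
      (γ.left ≫ pullback.fst W.left.hom f).appTop (gv (ψ.hom.app (op W) t)) := by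
    refine ((congrArg gv (chi_naturality f F' (back f F' ψ) g t)).trans (gv_map _ _)).symm.trans ?_
    rw [back_app, backVal]
    refine (gv_toX' f _).trans ?_
    show gv (ψ.hom.app (op (down f Wz)) (ext0 f F' z (F'.obj.map γ.op t))) = _
    rw [← hext]
    exact (congrArg gv (ConcreteCategory.congr_hom (ψ.hom.naturality d.op) t)).trans (gv_map _ _)
  haveI : IsIso (γ.left ≫ pullback.fst W.left.hom f).appTop :=
    inferInstanceAs (IsIso ((γ.left ≫ pullback.fst W.left.hom f).app ⊤))
  exact (ConcreteCategory.bijective_of_isIso (γ.left ≫ pullback.fst W.left.hom f).appTop).1 (hn.trans h2)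

include hN in
theorem fwd_back_of_splitting {W : Over T} (S : Splitting f W.left) (s : F'.obj.obj (op ((P f).obj W.left))) :
    N.hom.app (op W.left) ((back f F' ψ).hom.app (op (Over.mk ((P f).map W.hom))) s) = ψ.hom.app (op W) s := by
  classical
  haveI := S.iso
  haveI : ∀ j, IsOpenImmersion (S.γ j).left := fun j => isOpenImmersion_of_section f (S.γ j)
  choose t ht hts using fun j => exists_supp F' (S.γ j) (isClosed_range_of_section f (S.γ j)) (F'.obj.map (S.γ j).op s)
  have hs : s = ∑ j, t j := by
    refine ext_cover F' (fun j : ULift.{u} (Fin S.n) => S.z j.down) (fun j => S.γ j.down) (fun p => ?_) fun i => ?_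
    · obtain ⟨j, w, hw⟩ := S.cover p
      exact ⟨⟨j⟩, w, hw⟩
    · rw [map_sum, Finset.sum_eq_single i.down (fun j _ hj => ht j _ _ (S.disj i.down j (Ne.symm hj)))
        (fun h => absurd (Finset.mem_univ _) h)]
      exact (hts i.down).symm
  rw [hs]
  let L : F'.obj.obj (op ((P f).obj W.left)) →+ (CGrpSh2.Gm Scheme.fppfPrecoverage X).obj.obj (op W.left) :=
    (N.hom.app (op W.left)).hom.comp ((back f F' ψ).hom.app (op (Over.mk ((P f).map W.hom)))).hom
  show L (∑ j, t j) = (ψ.hom.app (op W)).hom (∑ j, t j)
  erw [map_sum, map_sum]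
  exact Finset.sum_congr rfl fun j _ => fwd_back_of_supp f F' ψ N hN (S.γ j) (t j) (ht j)

include hN in
theorem fwd_back (W : Over T) (s : F'.obj.obj (op ((P f).obj W.left))) :
    ((CGrpSh3.dualNormMap Scheme.fppfPrecoverage f N F').hom.app (op T) (back f F' ψ)).hom.app (op W) s =
      ψ.hom.app (op W) s := by
  rw [fwd_app]
  set L := N.hom.app (op W.left) ((back f F' ψ).hom.app (op (Over.mk ((P f).map W.hom))) s) with hL
  set R := ψ.hom.app (op W) s with hR
  refine ULift.ext _ _ (Additive.toMul.injective ?_)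
  choose Tv a hA hI hx hff using Groth.Agent.S15383.exists_chart f W.left
  choose V e hfl hsur hS using fun x => @exists_splitting _ _ f _ _ (Tv x) (hA x) (hff x)
  refine Over.OverMorphism.ext (Scheme.Cover.hom_ext (Scheme.openCoverOfIsOpenCover _ (fun x => (a x).left.opensRange)
    (top_le_iff.1 fun x _ => TopologicalSpace.Opens.mem_iSup.2 ⟨x, hx x⟩)) _ _ fun x => ?_)
  haveI := hI x
  haveI := hfl x
  haveI := hsur x
  obtain ⟨S⟩ := hS x
  let W' : Over T := Over.mk (e x ≫ a x ≫ W.hom)
  let g : W' ⟶ W := Over.homMk (e x ≫ a x)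
  have key : (CGrpSh2.Gm Scheme.fppfPrecoverage X).obj.map g.left.op L =
      (CGrpSh2.Gm Scheme.fppfPrecoverage X).obj.map g.left.op R := by
    have h1 := fwd_back_of_splitting f F' ψ N hN (W := W') S (F'.obj.map ((P f).map g.left).op s)
    have h2 := chi_naturality f F' (back f F' ψ)
      (Over.homMk ((P f).map g.left) (by
        show (P f).map g.left ≫ (P f).map W.hom = (P f).map W'.hom
        rw [← Functor.map_comp, Over.w g]) : Over.mk ((P f).map W'.hom) ⟶ Over.mk ((P f).map W.hom)) s
    rw [hL, hR, ← N_naturality f N g.left]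
    refine ((congrArg (N.hom.app (op W'.left)) h2).symm.trans h1).trans ?_
    exact ConcreteCategory.congr_hom (ψ.hom.naturality g.op) s
  have key' : (e x).left ≫ (a x).left ≫ L.down.toMul.left = (e x).left ≫ (a x).left ≫ R.down.toMul.left := by
    have h := congrArg (fun y => (ULift.down y).toMul.left) key
    exact (Category.assoc _ _ _).symm.trans (h.trans (Category.assoc _ _ _))
  haveI : Epi (e x).left := Flat.epi_of_flat_of_surjective _
  have key'' := (cancel_epi (e x).left).1 key'
  rw [← (a x).left.isoOpensRange_hom_ι] at key''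
  simp only [Category.assoc] at key''
  exact (cancel_epi (a x).left.isoOpensRange.hom).1 key''

include hN in
theorem isIso_dualNormMap : IsIso (CGrpSh3.dualNormMap Scheme.fppfPrecoverage f N F') := by
  have happ : ∀ T : (Over X)ᵒᵖ, IsIso ((CGrpSh3.dualNormMap Scheme.fppfPrecoverage f N F').hom.app T) := by
    intro T
    rw [ConcreteCategory.isIso_iff_bijective]
    refine Function.bijective_iff_has_inverse.2 ⟨fun ψ => back f F' (T := T.unop) ψ, fun χ => ?_, fun ψ => ?_⟩
    · exact Sheaf.hom_ext (NatTrans.ext (funext fun W => AddCommGrpCat.ext fun s =>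
        back_fwd f F' (T := T.unop) N hN χ W.unop s))
    · exact Sheaf.hom_ext (NatTrans.ext (funext fun W => AddCommGrpCat.ext fun s =>
        fwd_back f F' (T := T.unop) ψ N hN W.unop s))
  haveI : IsIso (CGrpSh3.dualNormMap Scheme.fppfPrecoverage f N F').hom := by
    haveI := happ
    exact NatIso.isIso_of_isIso_app _
  haveI : IsIso ((sheafToPresheaf _ _).map (CGrpSh3.dualNormMap Scheme.fppfPrecoverage f N F')) := ‹_›
  exact isIso_of_reflects_iso _ (sheafToPresheaf _ _)

end Groth.Agent.DualNorm23
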