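import Groth.Agent.Lib.DualNorm23.Clopen
import Groth.Agent.S15383
import Mathlib.LinearAlgebra.Transvection.Basic
import Mathlib.RingTheory.Norm.Defs

/-!
# The norm of a function supported on a section
-/

set_option autoImplicit false
set_option backward.isDefEq.respectTransparency.types false

universe u

open CategoryTheory CategoryTheory.Limits AlgebraicGeometry Opposite TopologicalSpace

noncomputable section

namespace Groth.Agent.DualNorm23

theorem appTop_ext {W : Scheme.{u}} {J : Type u} {U : J → Scheme.{u}} (a : ∀ j, U j ⟶ W)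
    [∀ j, IsOpenImmersion (a j)] (hcov : ∀ z : W, ∃ j y, a j y = z) {r r' : Γ(W, ⊤)}
    (h : ∀ j, (a j).appTop r = (a j).appTop r') : r = r' := by
  refine W.sheaf.eq_of_locally_eq' (fun j => (a j).opensRange) ⊤ (fun j => homOfLE le_top) (fun z _ => ?_) r r'
    fun j => ?_
  · obtain ⟨j, y, hy⟩ := hcov z
    exact Opens.mem_iSup.2 ⟨j, y, hy⟩
  · haveI := Scheme.Hom.isIso_app (a j) (a j).opensRange le_rfl
    apply (ConcreteCategory.bijective_of_isIso ((a j).app (a j).opensRange)).1
    change (W.presheaf.map (homOfLE le_top).op ≫ (a j).app (a j).opensRange) r =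
      (W.presheaf.map (homOfLE le_top).op ≫ (a j).app (a j).opensRange) r'
    rw [Scheme.Hom.naturality]
    rw [CommRingCat.comp_apply, CommRingCat.comp_apply]
    exact congrArg _ (h j)

variable {X : Scheme.{u}}

/-- The function of a section of the multiplicative group. -/
def gv {w : Over X} (x : (CGrpSh2.Gm Scheme.fppfPrecoverage X).obj.obj (op w)) : Γ(w.left, ⊤) :=
  Red.gmFn x.down.toMul

theorem gv_inj {w : Over X} {x y : (CGrpSh2.Gm Scheme.fppfPrecoverage X).obj.obj (op w)} (h : gv x = gv y) : x = y :=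
  ULift.ext _ _ (congrArg Additive.ofMul (GmPts.gmFn_injective h))

theorem gv_zero {w : Over X} : gv (0 : (CGrpSh2.Gm Scheme.fppfPrecoverage X).obj.obj (op w)) = 1 := GmPts.gmFn_one

theorem gv_add {w : Over X} (x y : (CGrpSh2.Gm Scheme.fppfPrecoverage X).obj.obj (op w)) :
    gv (x + y) = gv x * gv y := GmPts.gmFn_mul _ _

theorem gv_map {v w : Over X} (b : v ⟶ w) (x : (CGrpSh2.Gm Scheme.fppfPrecoverage X).obj.obj (op w)) :
    gv ((CGrpSh2.Gm Scheme.fppfPrecoverage X).obj.map b.op x) = b.left.appTop (gv x) := GmPts.gmFn_comp b _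

theorem isUnit_gv {w : Over X} (x : (CGrpSh2.Gm Scheme.fppfPrecoverage X).obj.obj (op w)) : IsUnit (gv x) :=
  GmPts.isUnit_gmFn _

theorem exists_gv {w : Over X} {r : Γ(w.left, ⊤)} (hr : IsUnit r) :
    ∃ x : (CGrpSh2.Gm Scheme.fppfPrecoverage X).obj.obj (op w), gv x = r :=
  ⟨ULift.up (Additive.ofMul (GmPts.ptOfUnit hr.unit)), GmPts.gmFn_ptOfUnit _⟩

/-- The determinant of multiplication by a function equal to one away from a section. -/
theorem norm_eq_of_supp {A B : Type u} [CommRing A] [CommRing B] [Algebra A B] [Module.Finite A B]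
    [Module.Free A B] (χ : B →ₐ[A] A) (t : B) (h : ∀ b, χ b = 0 → (t - 1) * b = 0) :
    Algebra.norm A t = χ t := by
  have hL : Algebra.lmul A B t = LinearMap.transvection χ.toLinearMap (t - 1) := by
    refine LinearMap.ext fun b => ?_
    have := h (b - algebraMap A B (χ b)) (by rw [map_sub, AlgHom.commutes]; exact sub_self _)
    rw [LinearMap.transvection.apply]
    show t * b = b + χ b • (t - 1)
    rw [Algebra.smul_def]
    linear_combination this
  rw [Algebra.norm_apply, hL, LinearMap.transvection.det]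
  show 1 + χ (t - 1) = χ t
  rw [map_sub, map_one, add_sub_cancel]

variable {X' : Scheme.{u}} (f : X' ⟶ X) [IsFinite f] [Etale f]
  (N : CGrpSh3.pushGm Scheme.fppfPrecoverage f ⟶ CGrpSh2.Gm Scheme.fppfPrecoverage X)

theorem N_naturality {v₁ v₂ : Over X} (e : v₂ ⟶ v₁)
    (t : (CGrpSh2.Gm Scheme.fppfPrecoverage X').obj.obj (op ((P f).obj v₁))) :
    N.hom.app (op v₂) ((CGrpSh2.Gm Scheme.fppfPrecoverage X').obj.map ((P f).map e).op t) =
      (CGrpSh2.Gm Scheme.fppfPrecoverage X).obj.map e.op (N.hom.app (op v₁) t) :=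
  ConcreteCategory.congr_hom (N.hom.naturality e.op) t

/-- The norm of a function supported on a section is its value there. -/
theorem norm_supp (hN : CGrpSh3.IsNormMap Scheme.fppfPrecoverage f N) {v : Over X} {z : Over X'}
    (γ : z ⟶ (P f).obj v) [IsIso (γ.left ≫ pullback.fst v.hom f)]
    (t : (CGrpSh2.Gm Scheme.fppfPrecoverage X').obj.obj (op ((P f).obj v)))
    (ht : Supp (CGrpSh2.Gm Scheme.fppfPrecoverage X') γ t) :
    (γ.left ≫ pullback.fst v.hom f).appTop (gv (N.hom.app (op v) t)) = γ.left.appTop (gv t) := by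
  haveI := isOpenImmersion_of_section f γ
  choose Tv a hA hI hx hff using Groth.Agent.S15383.exists_chart f v
  let e := γ.left ≫ pullback.fst v.hom f
  let g : ∀ x, (Tv x).left ⟶ z.left := fun x => (a x).left ≫ inv e
  haveI : ∀ x, IsOpenImmersion (g x) := fun x => by
    haveI := hI x
    exact inferInstanceAs (IsOpenImmersion ((a x).left ≫ inv e))
  refine appTop_ext g (fun y => ?_) fun x => ?_
  · obtain ⟨w, hw⟩ := hx (e y)
    refine ⟨e y, w, ?_⟩
    show (inv e) ((a (e y)).left w) = y
    rw [hw, ← Scheme.Hom.comp_apply, IsIso.hom_inv_id]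
    rfl
  haveI := hA x
  haveI := hI x
  have hz : z.hom ≫ f = e ≫ v.hom := by
    rw [← Over.w γ]
    show (γ.left ≫ pullback.snd v.hom f) ≫ f = (γ.left ≫ pullback.fst v.hom f) ≫ v.hom
    simp only [Category.assoc]
    exact congrArg _ pullback.condition.symm
  let zx : Over X' := Over.mk (g x ≫ z.hom)
  let gx : zx ⟶ z := Over.homMk (g x) rfl
  let γx : zx ⟶ (P f).obj (Tv x) :=
    Over.homMk (pullback.lift (f := (Tv x).hom) (g := f) (𝟙 (Tv x).left) (g x ≫ z.hom) (by
      refine (Category.id_comp _).trans ?_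
      rw [Category.assoc, hz]
      show (Tv x).hom = ((a x).left ≫ inv e) ≫ e ≫ v.hom
      rw [Category.assoc, IsIso.inv_hom_id_assoc, Over.w (a x)])) (pullback.lift_snd _ _ _)
  have hfst : γx.left ≫ pullback.fst (Tv x).hom f = 𝟙 zx.left := pullback.lift_fst _ _ _
  haveI : IsIso (γx.left ≫ pullback.fst (Tv x).hom f) := by rw [hfst]; infer_instance
  have hsq : gx ≫ γ = γx ≫ (P f).map (a x) := by
    refine Over.OverMorphism.ext (pullback.hom_ext ?_ ?_)
    · simp only [Over.comp_left, Category.assoc, map_fst, reassoc_of% hfst]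
      show ((a x).left ≫ inv e) ≫ e = _
      rw [Category.assoc, IsIso.inv_hom_id]
      exact Category.comp_id _
    · simp only [Over.comp_left, Category.assoc, map_snd]
      rw [show γ.left ≫ pullback.snd v.hom f = z.hom from Over.w γ]
      exact (Over.w γx).symm
  set tx := (CGrpSh2.Gm Scheme.fppfPrecoverage X').obj.map ((P f).map (a x)).op t with htx
  have htsupp : Supp (CGrpSh2.Gm Scheme.fppfPrecoverage X') γx tx := ht.map f _ (a x) γx gx hsq
  have hL : (g x).appTop (e.appTop (gv (N.hom.app (op v) t))) = gv (N.hom.app (op (Tv x)) tx) := by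
    rw [N_naturality f N (a x) t, gv_map, ← CommRingCat.comp_apply, ← Scheme.Hom.comp_appTop]
    show ((((a x).left ≫ inv e) ≫ e).appTop) _ = _
    rw [Category.assoc, IsIso.inv_hom_id, Category.comp_id]
  have hR : (g x).appTop (γ.left.appTop (gv t)) = γx.left.appTop (gv tx) := by
    rw [htx, gv_map, ← CommRingCat.comp_apply, ← CommRingCat.comp_apply, ← Scheme.Hom.comp_appTop,
      ← Scheme.Hom.comp_appTop, ← Over.comp_left, ← hsq]
    rfl
  refine hL.trans (Eq.trans ?_ hR.symm)
  let : Algebra Γ((Tv x).left, ⊤) Γ(((P f).obj (Tv x)).left, ⊤) := (pullback.fst (Tv x).hom f).appTop.hom.toAlgebra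
  have : Module.Finite Γ((Tv x).left, ⊤) Γ(((P f).obj (Tv x)).left, ⊤) := (hff x).1
  have : Module.Free Γ((Tv x).left, ⊤) Γ(((P f).obj (Tv x)).left, ⊤) := (hff x).2
  let χ : Γ(((P f).obj (Tv x)).left, ⊤) →ₐ[Γ((Tv x).left, ⊤)] Γ((Tv x).left, ⊤) :=
    { γx.left.appTop.hom with
      commutes' := fun r => by
        show ((pullback.fst (Tv x).hom f).appTop ≫ γx.left.appTop) r = r
        rw [← Scheme.Hom.comp_appTop, hfst]
        rfl }
  refine (hN (Tv x) (fun _ => rfl) _).trans (norm_eq_of_supp χ _ fun b hb => ?_)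
  haveI := isOpenImmersion_of_section f γx
  have hcl := isClosed_range_of_section f γx
  let U : ULift.{u} Bool → Scheme.{u} := fun j => cond j.down zx.left (compl γx hcl).left
  let c : ∀ j, U j ⟶ ((P f).obj (Tv x)).left := fun j => match j with
    | ⟨true⟩ => γx.left
    | ⟨false⟩ => (complι γx hcl).left
  haveI : ∀ j, IsOpenImmersion (c j) := fun j => match j with
    | ⟨true⟩ => ‹IsOpenImmersion γx.left›
    | ⟨false⟩ => inferInstanceAs (IsOpenImmersion (complι γx hcl).left)
  refine appTop_ext c (fun y => ?_) fun j => ?_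
  · by_cases hy : y ∈ Set.range γx.left
    · obtain ⟨w, hw⟩ := hy
      exact ⟨⟨true⟩, w, hw⟩
    · exact ⟨⟨false⟩, ⟨y, hy⟩, rfl⟩
  rw [map_mul, map_zero]
  match j with
  | ⟨true⟩ =>
    show γx.left.appTop _ * γx.left.appTop b = 0
    rw [show γx.left.appTop b = 0 from hb, mul_zero]
  | ⟨false⟩ =>
    show (complι γx hcl).left.appTop _ * _ = 0
    rw [map_sub, map_one]
    have := congrArg gv (htsupp _ _ (complι_notMem γx hcl))
    rw [gv_map, gv_zero] at this
    erw [this]
    rw [sub_self, zero_mul]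

end Groth.Agent.DualNorm23
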